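import Cfsg.Agent.H603.AP.Rank
import Cfsg.Agent.H508.XR.Defs2

/-!
# Galois orbits of characters which are not rational on an abelian Sylow subgroup (helper26, for S4791 + S4927)

`P` an abelian Sylow `p`-subgroup of `G`.

* `KK p G` : the exponents `u` with `u ≡ 1` modulo the `p'`-part of `|G|`; `oK p χ` : the orbit of `χ` under `χ ↦ χ (g ^ u)`, `u` in
  `KK p G`.
* `Pf_pw` : `Pf f` of the `u`-conjugate is `u ^ D` times `Pf f`, for `f` homogeneous of degree `D`.
* `gal_main` : `h` linearly independent invariant forms of degree `D`, `1 ≤ D ≤ p - 2` : there are `h` members of `X0`, not `RatP`,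
  in different orbits (of the group of all units), each with at least `(p - 1) / gcd(D, p - 1)` members in its orbit `oK`.
* `gal_card`, `gal_nr` : the number of members of `X0` which are not `RatP` (not `PRat`) is at least
  `h * ((p - 1) / gcd (D, p - 1))`.
* `mix` : disjoint families (`FV` with nonzero value, Galois-stable) and different orbits of lengths `≥ m i` :
  `|families| + ∑ m i ≤ x0 + |orbits|`; `mix_one`, `mix_two`, `mix_gal`.
-/

set_option autoImplicit false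
set_option linter.unusedSectionVars false

open scoped ComplexConjugate

namespace Cfsg.Agent.H26.XZ

open Cfsg
open Cfsg.Agent.Blocks Cfsg.Agent.Blocks.Local Cfsg.Agent.Characters
open Cfsg.Agent.H674.XZ Cfsg.Agent.H603.AP

universe u

variable {p : ℕ} [hp : Fact p.Prime] {G : Type u} [Group G] [Finite G]

/-! ### the group of exponents -/

theorem mp_dvd (p : ℕ) (G : Type u) : mp p G ∣ Nat.card G := Nat.ordCompl_dvd _ _

/-- the exponents `≡ 1` modulo the `p'`-part of `|G|` -/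
noncomputable def KK (p : ℕ) (G : Type u) [Group G] : Subgroup (ZMod (Nat.card G))ˣ := (ZMod.unitsMap (mp_dvd p G)).ker

omit hp in
theorem mem_KK (u : (ZMod (Nat.card G))ˣ) : u ∈ KK p G ↔ ex u ≡ 1 [MOD mp p G] := by
  unfold KK
  rw [MonoidHom.mem_ker, ← ZMod.natCast_eq_natCast_iff, Units.ext_iff, ZMod.unitsMap_def, Units.coe_map, Units.val_one,
    Nat.cast_one, MonoidHom.coe_coe, ← ex_cast, map_natCast]

omit hp in
theorem JJ_le_KK : JJ p G ≤ KK p G := fun u hu => (mem_KK u).2 (((mem_JJ u).1 hu).of_dvd (mp_dvd_dd p G))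

/-- the orbit -/
def oK (p : ℕ) (χ : IrrCharacter G) : Set (IrrCharacter G) := {ψ | ∃ u ∈ KK p G, pw u χ = ψ}

/-! ### the action -/

omit hp in
theorem pw_one (χ : IrrCharacter G) : pw 1 χ = χ := (gact G).one_smul χ

omit hp in
theorem pw_mul (u v : (ZMod (Nat.card G))ˣ) (χ : IrrCharacter G) : pw (u * v) χ = pw u (pw v χ) := (gact G).mul_smul u v χ

omit hp in
theorem pw_inv_pw (u : (ZMod (Nat.card G))ˣ) (χ : IrrCharacter G) : pw u⁻¹ (pw u χ) = χ := by
  rw [← pw_mul, inv_mul_cancel, pw_one]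

omit hp in
theorem self_mem_oK (χ : IrrCharacter G) : χ ∈ oK p χ := ⟨1, one_mem _, pw_one χ⟩

omit hp in
theorem oK_eq_of_mem {χ ψ : IrrCharacter G} (h : ψ ∈ oK p χ) : oK p ψ = oK p χ := by
  obtain ⟨u, hu, rfl⟩ := h
  ext θ
  constructor
  · rintro ⟨v, hv, rfl⟩
    exact ⟨v * u, mul_mem hv hu, pw_mul v u χ⟩
  · rintro ⟨v, hv, rfl⟩
    refine ⟨v * u⁻¹, mul_mem hv (inv_mem hu), ?_⟩
    rw [pw_mul, pw_inv_pw]

theorem alm_pw (u : (ZMod (Nat.card G))ˣ) {χ : IrrCharacter G} (h : Alm p (χ : G → ℂ)) : Alm p (pw u χ : G → ℂ) := by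
  rw [alm_iff] at h ⊢
  intro w hw
  rw [← pw_mul, mul_comm, pw_mul, h w hw]

variable {M : Ideal AlgInt}

/-- the action preserves `X0` -/
theorem mem0_pw (u : (ZMod (Nat.card G))ˣ) {χ : IrrCharacter G} (h : Mem0 p M χ) : Mem0 p M (pw u χ) :=
  ⟨pw_mem u h.1, by rw [charDegree_pw]; exact h.2.1, alm_pw u h.2.2⟩

theorem mem0_pw_iff (u : (ZMod (Nat.card G))ˣ) {χ : IrrCharacter G} : Mem0 p M (pw u χ) ↔ Mem0 p M χ :=
  ⟨fun h => by rw [← pw_inv_pw u χ]; exact mem0_pw _ h, mem0_pw u⟩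

theorem ratP_pw (P : Sylow p G) (u : (ZMod (Nat.card G))ˣ) {χ : IrrCharacter G} (h : RatP P (χ : G → ℂ)) :
    RatP P (pw u χ : G → ℂ) := by
  intro j hj x
  rw [pw_apply, pw_apply, ← pow_mul, mul_comm, pow_mul]
  exact h j hj (x ^ ex u)

theorem ratP_pw_iff (P : Sylow p G) (u : (ZMod (Nat.card G))ˣ) {χ : IrrCharacter G} :
    RatP P (pw u χ : G → ℂ) ↔ RatP P (χ : G → ℂ) :=
  ⟨fun h => by rw [← pw_inv_pw u χ]; exact ratP_pw P _ h, ratP_pw P u⟩

/-- members of `X0` which are not rational on `P` -/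
def Nr (M : Ideal AlgInt) (P : Sylow p G) (χ : IrrCharacter G) : Prop := Mem0 p M χ ∧ ¬ RatP P (χ : G → ℂ)

theorem Nr.of_mem {P : Sylow p G} {χ ψ : IrrCharacter G} (h : Nr M P χ) (hψ : ψ ∈ oK p χ) : Nr M P ψ := by
  obtain ⟨u, -, rfl⟩ := hψ
  exact ⟨mem0_pw u h.1, fun h1 => h.2 ((ratP_pw_iff P u).1 h1)⟩

theorem mem0_of_mem {χ ψ : IrrCharacter G} (h : Mem0 p M χ) (hψ : ψ ∈ oK p χ) : Mem0 p M ψ := by
  obtain ⟨u, -, rfl⟩ := hψ
  exact mem0_pw u h

/-- `RatP` and `PRat` -/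
theorem ratP_iff (P : Sylow p G) (χ : IrrCharacter G) : RatP P (χ : G → ℂ) ↔ H508.XR.PRat p χ := by
  constructor
  · intro h g hg j hj
    obtain ⟨c, hc⟩ := exists_conj_le P (isPGroup_zpowers hg)
    have h1 := hc g (Subgroup.mem_zpowers g)
    have h2 : ∀ y : G, (χ : G → ℂ) (c * y * c⁻¹) = (χ : G → ℂ) y := by
      intro y
      exact Core.isIrr_isClassFunction χ.2 y c
    have h3 := h j ((Nat.Prime.coprime_iff_not_dvd hp.out).2 hj).symm ⟨_, h1⟩
    have h4 : ((c * g * c⁻¹ : G)) ^ j = c * g ^ j * c⁻¹ := conj_pow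
    simp only [h4, h2] at h3
    exact h3
  · intro h j hj x
    refine h x ?_ j ((Nat.Prime.coprime_iff_not_dvd hp.out).1 hj.symm)
    exact order_pow P x

/-! ### surjectivity -/

/-- a unit with given residue modulo `p` -/
theorem exists_KK (hpG : p ∣ Nat.card G) (t : (ZMod p)ˣ) : ∃ u ∈ KK p G, ((ex u : ℕ) : ZMod p) = t := by
  set k := (t : ZMod p).val with hk
  have hkp : k.Coprime p := ZMod.val_coe_unit_coprime t
  have hcop : Nat.Coprime (p ^ (Nat.card G).factorization p) (mp p G) :=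
    Nat.Coprime.pow_left _ ((Nat.Prime.coprime_iff_not_dvd hp.out).2 (not_dvd_mp hp.out G))
  obtain ⟨N, hN1, hN2⟩ := Nat.chineseRemainder hcop k 1
  have hcard : Nat.card G = p ^ (Nat.card G).factorization p * mp p G :=
    (Nat.ordProj_mul_ordCompl_eq_self (Nat.card G) p).symm
  have hNc : N.Coprime (Nat.card G) := by
    rw [hcard]
    refine Nat.Coprime.mul_right ?_ ?_
    · rw [Nat.Coprime, hN1.gcd_eq]
      exact Nat.Coprime.pow_right _ hkp
    · rw [Nat.Coprime, hN2.gcd_eq, Nat.gcd_one_left]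
  let u : (ZMod (Nat.card G))ˣ := ZMod.unitOfCoprime N hNc
  have h5 : ex u ≡ N [MOD Nat.card G] := by
    rw [← ZMod.natCast_eq_natCast_iff, ex_cast]
    rfl
  refine ⟨u, (mem_KK u).2 ((h5.of_dvd (mp_dvd p G)).trans hN2), ?_⟩
  have h0 : (Nat.card G).factorization p ≠ 0 := by
    intro h0
    have h1 := (hp.out.dvd_iff_one_le_factorization (Nat.card_pos (α := G)).ne').1 hpG
    omega
  have h6 : ex u ≡ k [MOD p] := by
    refine (h5.of_dvd hpG).trans (hN1.of_dvd ?_)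
    exact dvd_pow_self p h0
  rw [(ZMod.natCast_eq_natCast_iff _ _ _).2 h6, hk, ZMod.natCast_zmod_val]

/-! ### the functional -/

/-- the multiplicities of the conjugates -/
theorem mi_rs_pow (P : Sylow p G) (u : (ZMod (Nat.card G))ˣ) (χ : IrrCharacter G) (l : LL p P) :
    mi (rs P (pw u χ : G → ℂ)) (l ^ ex u) = mi (rs P (χ : G → ℂ)) l := by
  have := Fintype.ofFinite P
  have h1 : (ex u).Coprime (Nat.card P) :=
    Nat.Coprime.coprime_dvd_right (Subgroup.card_subgroup_dvd_card (P : Subgroup G)) (ex_coprime u)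
  unfold mi
  congr 2
  rw [ipc_eq, ipc_eq, Core.classInner_def, Core.classInner_def]
  congr 1
  refine Fintype.sum_equiv (powCoprime h1.symm) _ _ fun g => ?_
  have h2 : ch (l ^ ex u) g = ch l (g ^ ex u) := by
    unfold ch
    congr 1
    rw [ev_pow, ev_pow']
  change (χ : G → ℂ) (((g : G)) ^ ex u) * conj (ch (l ^ ex u) g) = (χ : G → ℂ) ((g ^ ex u : P) : G) * conj (ch l (g ^ ex u))
  rw [h2, Subgroup.coe_pow]

/-- **The functional on the conjugates.** -/
theorem Pf_pw (hpG : p ∣ Nat.card G) (P : Sylow p G) (u : (ZMod (Nat.card G))ˣ) (χ : IrrCharacter G) {D : ℕ}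
    {f : LL p P → ZMod p} (hf : f ∈ Pol p P D) :
    Pf f (rs P (pw u χ : G → ℂ)) = ((ex u : ℕ) : ZMod p) ^ D * Pf f (rs P (χ : G → ℂ)) := by
  have := finite_LL (p := p) (A := P)
  have := Fintype.ofFinite (LL p P)
  have hg : (ex u).Coprime p := Nat.Coprime.coprime_dvd_right hpG (ex_coprime u)
  have hb : Function.Bijective fun l : LL p P => l ^ ex u := by
    rw [Fintype.bijective_iff_injective_and_card]
    refine ⟨fun l m h => ?_, rfl⟩
    obtain ⟨k, hk⟩ := Nat.exists_mul_mod_eq_one_of_coprime hg hp.out.one_lt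
    have h5 : ∀ l : LL p P, (l ^ ex u) ^ k = l := by
      intro l
      refine ev_ext fun x => ?_
      rw [ev_pow', ev_pow', ← mul_assoc, ← Nat.cast_mul]
      have h6 : ((k * ex u : ℕ) : ZMod p) = 1 := by
        rw [← Nat.cast_one, ZMod.natCast_eq_natCast_iff, mul_comm]
        exact hk.2.trans (Nat.mod_eq_of_lt hp.out.one_lt).symm
      rw [h6, one_mul]
    rw [← h5 l, ← h5 m]
    exact congrArg (· ^ k) h
  rw [Pf_eq, Pf_eq, ← Equiv.sum_comp (Equiv.ofBijective _ hb), Finset.mul_sum]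
  refine Finset.sum_congr rfl fun l _ => ?_
  change (mi (rs P (pw u χ : G → ℂ)) (l ^ ex u) : ZMod p) * f (l ^ ex u) = _
  rw [mi_rs_pow, Pol_apply_pow hf]
  ring

theorem ex_ne_zero (hpG : p ∣ Nat.card G) (u : (ZMod (Nat.card G))ˣ) : ((ex u : ℕ) : ZMod p) ≠ 0 := by
  intro h0
  rw [ZMod.natCast_eq_zero_iff] at h0
  have hg : (ex u).Coprime p := Nat.Coprime.coprime_dvd_right hpG (ex_coprime u)
  exact hp.out.one_lt.ne' (Nat.Coprime.eq_one_of_dvd hg.symm h0)

/-! ### the length of an orbit -/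

/-- **The length of an orbit.** -/
theorem card_oK (hpG : p ∣ Nat.card G) (P : Sylow p G) {χ : IrrCharacter G} {D : ℕ} {f : LL p P → ZMod p}
    (hf : f ∈ Pol p P D) (h0 : Pf f (rs P (χ : G → ℂ)) ≠ 0) : (p - 1) / Nat.gcd D (p - 1) ≤ Nat.card (oK p χ) := by
  have hfin : Finite (IrrCharacter G) := Core.finite_irr
  have h1 : Nat.card (powMonoidHom D : (ZMod p)ˣ →* (ZMod p)ˣ).range = (p - 1) / Nat.gcd D (p - 1) := by
    rw [IsCyclic.card_powMonoidHom_range, Nat.card_eq_fintype_card, ZMod.card_units_eq_totient, Nat.totient_prime hp.out,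
      Nat.gcd_comm]
  rw [← h1]
  have h2 : ∀ s : (powMonoidHom D : (ZMod p)ˣ →* (ZMod p)ˣ).range, ∃ ψ : oK p χ,
      Pf f (rs P (ψ.1 : G → ℂ)) = (s.1 : ZMod p) * Pf f (rs P (χ : G → ℂ)) := by
    rintro ⟨s, t, rfl⟩
    obtain ⟨u, hu, hut⟩ := exists_KK hpG t
    refine ⟨⟨pw u χ, u, hu, rfl⟩, ?_⟩
    change Pf f (rs P (pw u χ : G → ℂ)) = _
    rw [Pf_pw hpG P u χ hf, hut]
    rfl
  choose F hF using h2
  refine Nat.card_le_card_of_injective F fun a b hab => ?_
  have h3 := (hF a).symm.trans ((congrArg (fun z : oK p χ => Pf f (rs P (z.1 : G → ℂ))) hab).trans (hF b))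
  exact Subtype.ext (Units.ext (mul_right_cancel₀ h0 h3))

/-! ### the main theorem -/

/-- the restricted functional -/
noncomputable def Tf (P : Sylow p G) (V : Submodule (ZMod p) (LL p P → ZMod p)) (χ : IrrCharacter G) :
    Module.Dual (ZMod p) V := (PfL (rs P (χ : G → ℂ))).comp V.subtype

theorem Tf_apply (P : Sylow p G) (V : Submodule (ZMod p) (LL p P → ZMod p)) (χ : IrrCharacter G) (f : V) :
    Tf P V χ f = Pf (f : LL p P → ZMod p) (rs P (χ : G → ℂ)) := rfl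

/-- the functionals of the members which are not rational span the dual space -/
theorem span_Tf (hM : IsPModular p M) (hpG : p ∣ Nat.card G) {P : Sylow p G} (hab : ∀ x ∈ P, ∀ y ∈ P, x * y = y * x)
    (V : Submodule (ZMod p) (LL p P → ZMod p)) (hV : V ≤ PP p P) (hW : ∀ f ∈ V, WInv P f) :
    Submodule.span (ZMod p) (Set.range fun χ : {χ : IrrCharacter G // Nr M P χ} => Tf P V χ.1) = ⊤ := by
  classical
  have hfin : Finite (IrrCharacter G) := Core.finite_irr
  have := Fintype.ofFinite (IrrCharacter G)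
  have := finite_LL (p := p) (A := P)
  have := Fintype.ofFinite (LL p P)
  set W := Submodule.span (ZMod p) (Set.range fun χ : {χ : IrrCharacter G // Nr M P χ} => Tf P V χ.1) with hWdef
  have h1 : W.dualCoannihilator = ⊥ := by
    rw [eq_bot_iff]
    intro f hf
    rw [Submodule.mem_bot]
    rw [Submodule.mem_dualCoannihilator] at hf
    have hf' : ∀ χ : IrrCharacter G, Nr M P χ → Pf (f : LL p P → ZMod p) (rs P (χ : G → ℂ)) = 0 := fun χ hχ =>
      hf _ (Submodule.subset_span ⟨⟨χ, hχ⟩, rfl⟩)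
    apply Subtype.ext
    funext l
    obtain ⟨m, hm⟩ := key_sum hM hpG hab (th_NInv P l) (gen_of_char (th_isCharacter P l)) (th_J P l) (hV f.2)
    have h1 : Pf (f : LL p P → ZMod p) (th P l) = 0 := by
      rw [hm]
      refine Finset.sum_eq_zero fun χ _ => ?_
      split_ifs with h2
      · have h3 : Pf (f : LL p P → ZMod p) (rs P (χ : G → ℂ)) = 0 := by
          by_cases h4 : RatP P (χ : G → ℂ)
          · exact Pf_rat P.2 (fun j hj x => h4 j hj x) (hV f.2)
          · exact hf' χ ⟨h2, h4⟩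
        rw [h3, mul_zero]
      · rfl
    rw [Pf_th P (hW f f.2) l] at h1
    rcases mul_eq_zero.1 h1 with h2 | h2
    · exact absurd ((ZMod.natCast_eq_zero_iff _ _).1 h2) (card_ob P hab l)
    · exact h2
  have h2 := Subspace.dualCoannihilator_dualAnnihilator_eq (W := W)
  rw [h1, Submodule.dualAnnihilator_bot] at h2
  exact h2.symm

/-- **The theorem on the Galois orbits.** -/
theorem gal_main (hM : IsPModular p M) (hpG : p ∣ Nat.card G) {P : Sylow p G} (hab : ∀ x ∈ P, ∀ y ∈ P, x * y = y * x)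
    {D : ℕ} (h1 : 1 ≤ D) (h2 : D + 2 ≤ p) {ι : Type*} [Finite ι] {f : ι → LL p P → ZMod p}
    (hf : LinearIndependent (ZMod p) f) (hP : ∀ i, f i ∈ Pol p P D) (hW : ∀ i, WInv P (f i)) :
    ∃ χ : ι → IrrCharacter G, (∀ i, Mem0 p M (χ i) ∧ ¬ RatP P (χ i : G → ℂ)) ∧
      (∀ i j, i ≠ j → ∀ u : (ZMod (Nat.card G))ˣ, pw u (χ i) ≠ χ j) ∧
      ∀ i, (p - 1) / Nat.gcd D (p - 1) ≤ Nat.card (oK p (χ i)) := by
  classical
  have := Fintype.ofFinite ι
  have := finite_LL (p := p) (A := P)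
  have := Fintype.ofFinite (LL p P)
  have hfin : Finite (IrrCharacter G) := Core.finite_irr
  set V := Submodule.span (ZMod p) (Set.range f) with hV
  have hVP : V ≤ Pol p P D := by
    refine Submodule.span_le.2 ?_
    rintro g ⟨i, rfl⟩
    exact hP i
  have hVW : ∀ g ∈ V, WInv P g := by
    intro g hg
    have h3 : V ≤ invSp P := by
      refine Submodule.span_le.2 ?_
      rintro g ⟨i, rfl⟩
      exact hW i
    exact h3 hg
  have hsp := span_Tf hM hpG hab V (hVP.trans (Pol_le_PP h1 h2)) hVW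
  obtain ⟨κ, a, ha, hk1, hk2⟩ := exists_linearIndependent' (ZMod p)
    (fun χ : {χ : IrrCharacter G // Nr M P χ} => Tf P V χ.1)
  rw [hsp] at hk1
  have hκ : Finite κ := Finite.of_injective a ha
  have := Fintype.ofFinite κ
  let b := Module.Basis.mk hk2 hk1.ge
  have hcard : Nat.card κ = Nat.card ι := by
    rw [Nat.card_eq_fintype_card, Nat.card_eq_fintype_card, ← Module.finrank_eq_card_basis b, Subspace.dual_finrank_eq, hV,
      finrank_span_eq_card hf]
  have e : ι ≃ κ := (Finite.card_eq.1 hcard.symm).some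
  have hli : LinearIndependent (ZMod p) fun i : ι => Tf P V (a (e i)).1 := hk2.comp e e.injective
  refine ⟨fun i => (a (e i)).1, fun i => (a (e i)).2, fun i j hij u hu => ?_, fun i => ?_⟩
  · -- different orbits
    have h3 : Tf P V (a (e j)).1 = (((ex u : ℕ) : ZMod p) ^ D) • Tf P V (a (e i)).1 := by
      have hu' : pw u (a (e i)).1 = (a (e j)).1 := hu
      refine LinearMap.ext fun g => ?_
      rw [LinearMap.smul_apply, Tf_apply, Tf_apply, ← hu', Pf_pw hpG P u _ (hVP g.2), smul_eq_mul]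
    have h4 : LinearIndependent (ZMod p) ![Tf P V (a (e i)).1, Tf P V (a (e j)).1] := by
      have h5 : Function.Injective ![i, j] := by
        intro s t hst
        fin_cases s <;> fin_cases t <;> simp_all
      have h6 := hli.comp ![i, j] h5
      convert h6 using 1
      funext s
      fin_cases s <;> rfl
    have h5 := (LinearIndependent.pair_iff.1 h4 (((ex u : ℕ) : ZMod p) ^ D) (-1) (by
      rw [h3, neg_one_smul, add_neg_cancel])).2
    exact neg_ne_zero.2 one_ne_zero h5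
  · have h3 : Tf P V (a (e i)).1 ≠ 0 := hli.ne_zero i
    have h4 : ∃ g : V, Tf P V (a (e i)).1 g ≠ 0 := by
      by_contra hcon
      push Not at hcon
      exact h3 (LinearMap.ext hcon)
    obtain ⟨g, hg⟩ := h4
    exact card_oK hpG P (hVP g.2) hg

/-- the number of the members of a union of different orbits -/
theorem sum_card_oK {ι : Type*} [Fintype ι] (Q : IrrCharacter G → Prop) {χ : ι → IrrCharacter G}
    (hQ : ∀ i, ∀ ψ ∈ oK p (χ i), Q ψ) (hd : ∀ i j, i ≠ j → ∀ u ∈ KK p G, pw u (χ i) ≠ χ j) :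
    ∑ i, Nat.card (oK p (χ i)) ≤ Nat.card {ψ : IrrCharacter G // Q ψ} := by
  classical
  have hfin : Finite (IrrCharacter G) := Core.finite_irr
  rw [← Nat.card_sigma]
  refine Nat.card_le_card_of_injective (fun z : Σ i, oK p (χ i) => (⟨z.2.1, hQ z.1 z.2.1 z.2.2⟩ : {ψ : IrrCharacter G // Q ψ})) ?_
  rintro ⟨i, ψ, hψ⟩ ⟨j, θ, hθ⟩ h
  have h1 : ψ = θ := congrArg Subtype.val h
  subst h1
  have h2 : i = j := by
    by_contra hne
    obtain ⟨u, hu, h3⟩ := hψ
    obtain ⟨v, hv, h4⟩ := hθ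
    refine hd i j hne (v⁻¹ * u) (mul_mem (inv_mem hv) hu) ?_
    rw [pw_mul, h3, ← h4, pw_inv_pw]
  subst h2
  rfl

/-- **The number of members which are not rational on `P`.** -/
theorem gal_card (hM : IsPModular p M) (hpG : p ∣ Nat.card G) {P : Sylow p G} (hab : ∀ x ∈ P, ∀ y ∈ P, x * y = y * x)
    {D : ℕ} (h1 : 1 ≤ D) (h2 : D + 2 ≤ p) {ι : Type*} [Finite ι] {f : ι → LL p P → ZMod p}
    (hf : LinearIndependent (ZMod p) f) (hP : ∀ i, f i ∈ Pol p P D) (hW : ∀ i, WInv P (f i)) :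
    Nat.card ι * ((p - 1) / Nat.gcd D (p - 1)) ≤ Nat.card {χ : IrrCharacter G // Mem0 p M χ ∧ ¬ RatP P (χ : G → ℂ)} := by
  have := Fintype.ofFinite ι
  obtain ⟨χ, h3, h4, h5⟩ := gal_main hM hpG hab h1 h2 hf hP hW
  refine le_trans ?_ (sum_card_oK (p := p) (fun ψ : IrrCharacter G => Mem0 p M ψ ∧ ¬ RatP P (ψ : G → ℂ)) (χ := χ)
    (fun i ψ hψ => Nr.of_mem (h3 i) hψ) fun i j hij u _ => h4 i j hij u)
  rw [Nat.card_eq_fintype_card, ← smul_eq_mul, ← Finset.card_univ]
  exact Finset.card_nsmul_le_sum _ _ _ fun i _ => h5 i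

theorem card_nonrat_eq_nr (P : Sylow p G) :
    Nat.card {χ : IrrCharacter G // Mem0 p M χ ∧ ¬ RatP P (χ : G → ℂ)} = H508.XR.nr p M G := by
  unfold H508.XR.nr
  exact Nat.card_congr (Equiv.subtypeEquivRight fun χ => by rw [ratP_iff])

theorem card_rat_eq_rr (P : Sylow p G) :
    Nat.card {χ : IrrCharacter G // Mem0 p M χ ∧ RatP P (χ : G → ℂ)} = H508.XR.rr p M G := by
  unfold H508.XR.rr
  exact Nat.card_congr (Equiv.subtypeEquivRight fun χ => by rw [ratP_iff])

/-- `x0 = rr + nr` -/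
theorem x0_eq_rr_add_nr : x0 p M G = H508.XR.rr p M G + H508.XR.nr p M G := by
  rw [x0_eq_add (default : Sylow p G), card_nonrat_eq_nr, card_rat_eq_rr]

/-- **`gal_card`, for `nr`.** -/
theorem gal_nr (hM : IsPModular p M) (hpG : p ∣ Nat.card G) {P : Sylow p G} (hab : ∀ x ∈ P, ∀ y ∈ P, x * y = y * x)
    {D : ℕ} (h1 : 1 ≤ D) (h2 : D + 2 ≤ p) {ι : Type*} [Finite ι] {f : ι → LL p P → ZMod p}
    (hf : LinearIndependent (ZMod p) f) (hP : ∀ i, f i ∈ Pol p P D) (hW : ∀ i, WInv P (f i)) :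
    Nat.card ι * ((p - 1) / Nat.gcd D (p - 1)) ≤ H508.XR.nr p M G := by
  rw [← card_nonrat_eq_nr P]
  exact gal_card hM hpG hab h1 h2 hf hP hW

/-- one form -/
theorem gal_nr_one (hM : IsPModular p M) (hpG : p ∣ Nat.card G) {P : Sylow p G} (hab : ∀ x ∈ P, ∀ y ∈ P, x * y = y * x)
    {D : ℕ} (h1 : 1 ≤ D) (h2 : D + 2 ≤ p) {f : LL p P → ZMod p} (h0 : f ≠ 0) (hP : f ∈ Pol p P D) (hW : WInv P f) :
    (p - 1) / Nat.gcd D (p - 1) ≤ H508.XR.nr p M G := by
  have h := gal_nr (ι := Unit) (f := fun _ => f) hM hpG hab h1 h2 (LinearIndependent.of_subsingleton () h0)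
    (fun _ => hP) fun _ => hW
  rwa [Nat.card_unique, one_mul] at h

/-- two forms -/
theorem gal_nr_two (hM : IsPModular p M) (hpG : p ∣ Nat.card G) {P : Sylow p G} (hab : ∀ x ∈ P, ∀ y ∈ P, x * y = y * x)
    {D : ℕ} (h1 : 1 ≤ D) (h2 : D + 2 ≤ p) {f g : LL p P → ZMod p} (h0 : LinearIndependent (ZMod p) ![f, g])
    (hPf : f ∈ Pol p P D) (hPg : g ∈ Pol p P D) (hWf : WInv P f) (hWg : WInv P g) :
    2 * ((p - 1) / Nat.gcd D (p - 1)) ≤ H508.XR.nr p M G := by
  have h := gal_nr (ι := Fin 2) (f := ![f, g]) hM hpG hab h1 h2 h0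
    (fun i => by fin_cases i <;> assumption) fun i => by fin_cases i <;> assumption
  rwa [Nat.card_eq_fintype_card, Fintype.card_fin] at h

/-! ### families and orbits -/

/-- **Families and orbits.** Disjoint Galois-stable families with nonzero value, and members of `X0` in different orbits of
lengths `≥ m i`. -/
theorem mix {κ : Type*} {ψ : κ → G → ℂ} {c : κ → ℤ} (h : ∀ i, FV p M (ψ i) (c i)) (hc : ∀ i, ¬ (p : ℤ) ∣ c i)
    (hd : ∀ i j, i ≠ j → ∀ χ : IrrCharacter G, ip (ψ i) (χ : G → ℂ) = 0 ∨ ip (ψ j) (χ : G → ℂ) = 0)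
    (hs : ∀ i, ∀ u ∈ KK p G, ∀ g, ψ i (g ^ ex u) = ψ i g)
    {ι : Type*} [Fintype ι] {χ : ι → IrrCharacter G} (hχ : ∀ i, Mem0 p M (χ i))
    (ho : ∀ i j, i ≠ j → ∀ u ∈ KK p G, pw u (χ i) ≠ χ j) {m : ι → ℕ} (hm : ∀ i, m i ≤ Nat.card (oK p (χ i))) :
    Nat.card κ + ∑ i, m i ≤ x0 p M G + Fintype.card ι := by
  classical
  have hfin0 : Finite (IrrCharacter G) := Core.finite_irr
  have hfin := finite_mem0 (p := p) (M := M) (G := G)
  choose φ h1 h2 using fun i => (h i).exists_mem0 (hc i)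
  -- the families are determined by their members
  have hinj : ∀ i j, ip (ψ i) (φ j : G → ℂ) ≠ 0 → i = j := by
    intro i j hij
    by_contra hne
    rcases hd i j hne (φ j) with h4 | h4
    · exact hij h4
    · exact h2 j h4
  have hφ : Function.Injective φ := by
    intro i j hij
    refine hinj i j ?_
    rw [← hij]
    exact h2 i
  -- the families with a member in an orbit
  have hκ : Finite κ := Finite.of_injective φ hφ
  have := Fintype.ofFinite κ
  have horb : ∀ i j, ∀ k, φ i ∈ oK p (χ k) → φ j ∈ oK p (χ k) → i = j := by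
    intro i j k hi hj
    rw [← oK_eq_of_mem hi] at hj
    obtain ⟨u, hu, hu2⟩ := hj
    refine hinj i j ?_
    have h3 := ip_pw u (hs i u hu) (φ i)
    rw [hu2] at h3
    rw [h3]
    exact h2 i
  let A : Finset κ := Finset.univ.filter fun i => ∃ k, φ i ∈ oK p (χ k)
  let B : Finset κ := Finset.univ.filter fun i => ¬ ∃ k, φ i ∈ oK p (χ k)
  have hAB : A.card + B.card = Fintype.card κ := Finset.card_filter_add_card_filter_not _
  have hA : A.card ≤ Fintype.card ι := by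
    have h3 : ∀ i : A, ∃ k, φ i.1 ∈ oK p (χ k) := fun i => (Finset.mem_filter.1 i.2).2
    choose t ht using h3
    have h4 := Fintype.card_le_of_injective t (fun i j hij => Subtype.ext (horb i.1 j.1 (t i) (ht i) (by rw [hij]; exact ht j)))
    rwa [Fintype.card_coe] at h4
  have hB : B.card + ∑ i, Nat.card (oK p (χ i)) ≤ x0 p M G := by
    unfold x0
    have h3 : Nat.card (B ⊕ Σ i, oK p (χ i)) = B.card + ∑ i, Nat.card (oK p (χ i)) := by
      rw [Nat.card_sum, Nat.card_sigma, Nat.card_eq_fintype_card (α := B), Fintype.card_coe]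
    rw [← h3]
    refine Nat.card_le_card_of_injective (fun z : B ⊕ Σ i, oK p (χ i) => (match z with
      | .inl i => ⟨φ i.1, h1 i.1⟩
      | .inr z => ⟨z.2.1, mem0_of_mem (hχ z.1) z.2.2⟩ : {χ : IrrCharacter G // Mem0 p M χ})) ?_
    rintro (i | ⟨i, a, ha⟩) (j | ⟨j, b, hb⟩) hij
    · have h4 : φ i.1 = φ j.1 := congrArg Subtype.val hij
      exact congrArg Sum.inl (Subtype.ext (hφ h4))
    · have h4 : φ i.1 = b := congrArg Subtype.val hij
      exact absurd ⟨j, by rw [h4]; exact hb⟩ (Finset.mem_filter.1 i.2).2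
    · have h4 : a = φ j.1 := congrArg Subtype.val hij
      exact absurd ⟨i, by rw [← h4]; exact ha⟩ (Finset.mem_filter.1 j.2).2
    · have h4 : a = b := congrArg Subtype.val hij
      subst h4
      have h5 : i = j := by
        by_contra hne
        obtain ⟨u, hu, h6⟩ := ha
        obtain ⟨v, hv, h7⟩ := hb
        refine ho i j hne (v⁻¹ * u) (mul_mem (inv_mem hv) hu) ?_
        rw [pw_mul, h6, ← h7, pw_inv_pw]
      subst h5
      rfl
  have h3 : ∑ i, m i ≤ ∑ i, Nat.card (oK p (χ i)) := Finset.sum_le_sum fun i _ => hm i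
  rw [Nat.card_eq_fintype_card]
  omega

/-- **Families and one orbit.** -/
theorem mix_one {κ : Type*} {ψ : κ → G → ℂ} {c : κ → ℤ} (h : ∀ i, FV p M (ψ i) (c i)) (hc : ∀ i, ¬ (p : ℤ) ∣ c i)
    (hd : ∀ i j, i ≠ j → ∀ χ : IrrCharacter G, ip (ψ i) (χ : G → ℂ) = 0 ∨ ip (ψ j) (χ : G → ℂ) = 0)
    (hs : ∀ i, ∀ u ∈ KK p G, ∀ g, ψ i (g ^ ex u) = ψ i g) {χ : IrrCharacter G} (hχ : Mem0 p M χ) {m : ℕ}
    (hm : m ≤ Nat.card (oK p χ)) : Nat.card κ + m ≤ x0 p M G + 1 := by
  have h1 := mix (ι := Unit) h hc hd hs (χ := fun _ => χ) (fun _ => hχ) (fun i j hij => absurd (Subsingleton.elim i j) hij)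
    (m := fun _ => m) fun _ => hm
  simpa using h1

/-- **Families and two orbits.** -/
theorem mix_two {κ : Type*} {ψ : κ → G → ℂ} {c : κ → ℤ} (h : ∀ i, FV p M (ψ i) (c i)) (hc : ∀ i, ¬ (p : ℤ) ∣ c i)
    (hd : ∀ i j, i ≠ j → ∀ χ : IrrCharacter G, ip (ψ i) (χ : G → ℂ) = 0 ∨ ip (ψ j) (χ : G → ℂ) = 0)
    (hs : ∀ i, ∀ u ∈ KK p G, ∀ g, ψ i (g ^ ex u) = ψ i g) {χ χ' : IrrCharacter G} (hχ : Mem0 p M χ) (hχ' : Mem0 p M χ')
    (hne : ∀ u ∈ KK p G, pw u χ ≠ χ') {m m' : ℕ} (hm : m ≤ Nat.card (oK p χ)) (hm' : m' ≤ Nat.card (oK p χ')) :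
    Nat.card κ + (m + m') ≤ x0 p M G + 2 := by
  have h1 := mix (ι := Fin 2) h hc hd hs (χ := ![χ, χ']) (fun i => by fin_cases i <;> assumption)
    (fun i j hij u hu => by
      fin_cases i <;> fin_cases j
      · exact absurd rfl hij
      · exact hne u hu
      · intro h2
        refine hne u⁻¹ (inv_mem hu) ?_
        have h3 : pw u χ' = χ := h2
        rw [← h3, pw_inv_pw]
      · exact absurd rfl hij)
    (m := ![m, m']) fun i => by fin_cases i <;> assumption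
  simpa [Fin.sum_univ_two] using h1

/-- **Families and forms.** -/
theorem mix_gal (hM : IsPModular p M) (hpG : p ∣ Nat.card G) {P : Sylow p G} (hab : ∀ x ∈ P, ∀ y ∈ P, x * y = y * x)
    {D : ℕ} (h1 : 1 ≤ D) (h2 : D + 2 ≤ p) {ι : Type*} [Finite ι] {f : ι → LL p P → ZMod p}
    (hf : LinearIndependent (ZMod p) f) (hP : ∀ i, f i ∈ Pol p P D) (hW : ∀ i, WInv P (f i))
    {κ : Type*} {ψ : κ → G → ℂ} {c : κ → ℤ} (h : ∀ i, FV p M (ψ i) (c i)) (hc : ∀ i, ¬ (p : ℤ) ∣ c i)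
    (hd : ∀ i j, i ≠ j → ∀ χ : IrrCharacter G, ip (ψ i) (χ : G → ℂ) = 0 ∨ ip (ψ j) (χ : G → ℂ) = 0)
    (hs : ∀ i, ∀ u ∈ KK p G, ∀ g, ψ i (g ^ ex u) = ψ i g) :
    Nat.card κ + Nat.card ι * ((p - 1) / Nat.gcd D (p - 1)) ≤ x0 p M G + Nat.card ι := by
  have := Fintype.ofFinite ι
  obtain ⟨χ, h3, h4, h5⟩ := gal_main hM hpG hab h1 h2 hf hP hW
  have h6 := mix h hc hd hs (fun i => (h3 i).1) (fun i j hij u _ => h4 i j hij u) h5
  rwa [Finset.sum_const, Finset.card_univ, smul_eq_mul, ← Nat.card_eq_fintype_card (α := ι)] at h6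

/-- families and one form -/
theorem mix_gal_one (hM : IsPModular p M) (hpG : p ∣ Nat.card G) {P : Sylow p G} (hab : ∀ x ∈ P, ∀ y ∈ P, x * y = y * x)
    {D : ℕ} (h1 : 1 ≤ D) (h2 : D + 2 ≤ p) {f : LL p P → ZMod p} (h0 : f ≠ 0) (hP : f ∈ Pol p P D) (hW : WInv P f)
    {κ : Type*} {ψ : κ → G → ℂ} {c : κ → ℤ} (h : ∀ i, FV p M (ψ i) (c i)) (hc : ∀ i, ¬ (p : ℤ) ∣ c i)
    (hd : ∀ i j, i ≠ j → ∀ χ : IrrCharacter G, ip (ψ i) (χ : G → ℂ) = 0 ∨ ip (ψ j) (χ : G → ℂ) = 0)
    (hs : ∀ i, ∀ u ∈ KK p G, ∀ g, ψ i (g ^ ex u) = ψ i g) :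
    Nat.card κ + (p - 1) / Nat.gcd D (p - 1) ≤ x0 p M G + 1 := by
  have h3 := mix_gal (ι := Unit) (f := fun _ => f) hM hpG hab h1 h2 (LinearIndependent.of_subsingleton () h0)
    (fun _ => hP) (fun _ => hW) h hc hd hs
  rwa [Nat.card_unique (α := Unit), one_mul] at h3

/-- permutation characters are stable -/
theorem permC_stable (X : Type*) [MulAction G X] (u : (ZMod (Nat.card G))ˣ) (g : G) :
    H145.BR.permC G X (g ^ ex u) = H145.BR.permC G X g := permC_pow X (ex_coprime u) g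

/-- rational valued generalized characters are stable -/
theorem stable_of_rat {ψ : G → ℂ} (hψ : IsGeneralizedCharacter G ψ) (hr : ∀ g, ∃ q : ℚ, ψ g = q) (u : (ZMod (Nat.card G))ˣ) (g : G) :
    ψ (g ^ ex u) = ψ g := by
  obtain ⟨σ, hσ⟩ := exists_aut u
  obtain ⟨q, hq⟩ := hr g
  have h1 : σ (ψ g) = ψ (g ^ ex u) := by
    obtain ⟨α, β, hα, hβ, rfl⟩ := hψ
    rw [Pi.sub_apply, Pi.sub_apply, map_sub, hσ α hα, hσ β hβ]
  rw [← h1, hq, map_ratCast]

/-- combinations of permutation characters are stable -/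
theorem comb_stable {ι : Type*} (s : Finset ι) (X : ι → Type*) [∀ i, MulAction G (X i)] (a : ι → ℤ) (u : (ZMod (Nat.card G))ˣ)
    (g : G) : (∑ i ∈ s, a i • H145.BR.permC G (X i)) (g ^ ex u) = (∑ i ∈ s, a i • H145.BR.permC G (X i)) g := by
  rw [Finset.sum_apply, Finset.sum_apply]
  refine Finset.sum_congr rfl fun i _ => ?_
  rw [Pi.smul_apply, Pi.smul_apply, permC_stable]

end Cfsg.Agent.H26.XZ
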