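import Cfsg.Agent.H26.XZ.Gal
import Cfsg.Agent.H443.XC.Defs
import Cfsg.Agent.H324.AP.FrmB
import Cfsg.Agent.H842.XC.Inv

/-!
# S4791, S4927, classical rows: K3, K5 (helper26)

* `x0_ge_famG` (K3) : `R` families and the `(c + 1) / 2` forms of degree `p - 1 - e`, `e c = p - 1` :
  `R + (c + 1) / 2 * (c - 1) ≤ x0`;
* `exists_orb` : the Galois orbits `O i` (`i < (c + 1) / 2`) : pairwise disjoint subsets of `X0`, at least `c` members, and each
  integer valued character has all members of `O i` or none as constituents (for K10);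
* `row0_of_fam_frm` : the row from `AbOut`, `e + 1` families and the forms, `3 ≤ e` (K3 + K9 of helper842);
* `x0_ge_two` (K5) : two independent forms of degree `p - 2` : `2 (p - 1) ≤ x0`.
-/

set_option autoImplicit false

namespace Cfsg.Agent.H26.XZ

open Cfsg
open Cfsg.Agent.Blocks Cfsg.Agent.Blocks.Local Cfsg.Agent.Characters
open Cfsg.Agent.H674.XZ Cfsg.Agent.H603.AP Cfsg.Agent.H324.AP

universe u

variable {p : ℕ} [hp : Fact p.Prime] {M : Ideal AlgInt} {S : Type u} [Group S] [Finite S]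

omit hp in
/-- the orbit length for the forms of degree `p - 1 - e` -/
theorem div_gcd_eq {e c : ℕ} (hec : e * c = p - 1) (he : 1 ≤ e) (hc : 1 ≤ c) :
    (p - 1) / Nat.gcd (p - 1 - e) (p - 1) = c := by
  obtain ⟨c, rfl⟩ : ∃ d, c = d + 1 := ⟨c - 1, by omega⟩
  have h1 : p - 1 - e = e * c := by rw [← hec, Nat.mul_add, mul_one, Nat.add_sub_cancel]
  have h2 : Nat.gcd c (c + 1) = 1 := by simp
  rw [h1, ← hec, Nat.gcd_mul_left, h2, mul_one, Nat.mul_div_cancel_left _ he]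

omit hp [Group S] [Finite S] in
theorem int_rat {ψ : S → ℂ} (h : ∀ s, ∃ z : ℤ, ψ s = z) (s : S) : ∃ q : ℚ, ψ s = q := by
  obtain ⟨z, hz⟩ := h s
  exact ⟨z, by rw [hz, Rat.cast_intCast]⟩

/-- **K3.** -/
theorem x0_ge_famG (hM : IsPModular p M) {R e c : ℕ} (hec : e * c = p - 1) (he : 1 ≤ e) (h : H443.XC.Fam p M S R)
    (hF : FrmG p S e) (hpG : p ∣ Nat.card S) : R + (c + 1) / 2 * (c - 1) ≤ x0 p M S := by
  have hp2 := hp.out.two_le
  obtain ⟨ψ, k, h⟩ := h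
  have hd : ∀ i j, i ≠ j → ∀ χ : IrrCharacter S, ip (ψ i) (χ : S → ℂ) = 0 ∨ ip (ψ j) (χ : S → ℂ) = 0 :=
    fun i j hij => disj_of_orth (h i).1 (h j).1 ((h i).2.2.2.2.1 j hij)
  rcases Nat.lt_or_ge c 2 with hc | hc
  · have h0 : (c + 1) / 2 * (c - 1) = 0 := by
      have : c - 1 = 0 := by omega
      rw [this, mul_zero]
    rw [h0, add_zero]
    have h1 := le_x0 (fun i => (h i).2.2.1) (fun i => (h i).2.2.2.1) hd
    rwa [Nat.card_eq_fintype_card, Fintype.card_fin] at h1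
  · obtain ⟨P⟩ : Nonempty (Sylow p S) := inferInstance
    obtain ⟨hab, hf⟩ := hF P
    obtain ⟨f, h1, h2, h3⟩ := hf c hec hc
    have h4 : e * 2 ≤ p - 1 := by
      rw [← hec]
      exact Nat.mul_le_mul_left e hc
    have h5 := mix_gal hM hpG hab (D := p - 1 - e) (by omega) (by omega) h1 h2 h3 (fun i => (h i).2.2.1)
      (fun i => (h i).2.2.2.1) hd
      fun i u _ g => stable_of_rat (gen_of_char (h i).1) (int_rat (h i).2.1) u g
    rw [div_gcd_eq hec he (by omega), Nat.card_eq_fintype_card, Fintype.card_fin, Nat.card_eq_fintype_card,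
      Fintype.card_fin] at h5
    obtain ⟨c, rfl⟩ : ∃ d, c = d + 1 := ⟨c - 1, by omega⟩
    rw [Nat.add_sub_cancel]
    rw [Nat.mul_add, mul_one] at h5
    omega

/-- **The row from families and forms** (K3 + K9). -/
theorem row0_of_fam_frm (hM : IsPModular p M) (hpG : p ∣ Nat.card S) (hab : H508.KB.AbOut p S) {R e : ℕ} (hec : e ∣ p - 1)
    (he : 3 ≤ e) (hR : e + 1 ≤ R) (h : H443.XC.Fam p M S R) (hF : FrmG p S e) : H668.XZ.Row0 p M S := by
  obtain ⟨c, hc⟩ := hec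
  exact H842.XC.row0_of_fam_inv hM hab hc.symm he hR (x0_ge_famG hM hc.symm (by omega) h hF hpG) h

/-- **The Galois orbits**, for K10. -/
theorem exists_orb (hM : IsPModular p M) {e c : ℕ} (hec : e * c = p - 1) (he : 1 ≤ e) (hc : 2 ≤ c) (hF : FrmG p S e)
    (hpG : p ∣ Nat.card S) : ∃ O : Fin ((c + 1) / 2) → Set (IrrCharacter S), (∀ i, ∀ χ ∈ O i, Mem0 p M χ) ∧
      (∀ i j, i ≠ j → Disjoint (O i) (O j)) ∧ (∀ i, c ≤ (O i).ncard) ∧
      ∀ ψ : S → ℂ, IsGeneralizedCharacter S ψ → (∀ s, ∃ z : ℤ, ψ s = z) → ∀ i,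
        (∀ χ ∈ O i, ip ψ (χ : S → ℂ) ≠ 0) ∨ ∀ χ ∈ O i, ip ψ (χ : S → ℂ) = 0 := by
  have hp2 := hp.out.two_le
  obtain ⟨P⟩ : Nonempty (Sylow p S) := inferInstance
  obtain ⟨hab, hf⟩ := hF P
  obtain ⟨f, h1, h2, h3⟩ := hf c hec hc
  have h4 : e * 2 ≤ p - 1 := by
    rw [← hec]
    exact Nat.mul_le_mul_left e hc
  obtain ⟨χ, h5, h6, h7⟩ := gal_main hM hpG hab (D := p - 1 - e) (by omega) (by omega) h1 h2 h3
  refine ⟨fun i => oK p (χ i), fun i θ hθ => mem0_of_mem (h5 i).1 hθ, fun i j hij => ?_, fun i => ?_, fun ψ hψ hz i => ?_⟩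
  · rw [Set.disjoint_left]
    rintro θ ⟨u, hu, h8⟩ ⟨v, hv, h9⟩
    refine h6 i j hij (v⁻¹ * u) ?_
    rw [pw_mul, h8, ← h9, pw_inv_pw]
  · have h8 := h7 i
    rw [div_gcd_eq hec he (by omega)] at h8
    exact h8
  · by_cases h8 : ip ψ (χ i : S → ℂ) = 0
    · right
      rintro θ ⟨u, _, rfl⟩
      rw [ip_pw u (fun g => stable_of_rat hψ (int_rat hz) u g)]
      exact h8
    · left
      rintro θ ⟨u, _, rfl⟩
      rw [ip_pw u (fun g => stable_of_rat hψ (int_rat hz) u g)]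
      exact h8

/-- **K5.** -/
theorem x0_ge_two (hM : IsPModular p M) (h3 : 3 ≤ p) (hpG : p ∣ Nat.card S) {P : Sylow p S}
    (hab : ∀ x ∈ P, ∀ y ∈ P, x * y = y * x) {f : Fin 2 → LL p P → ZMod p} (hf : LinearIndependent (ZMod p) f)
    (hP : ∀ i, f i ∈ Pol p P (p - 2)) (hW : ∀ i, WInv P (f i)) : 2 * (p - 1) ≤ x0 p M S := by
  have h1 := gal_nr hM hpG hab (D := p - 2) (by omega) (by omega) hf hP hW
  have h2 : Nat.gcd (p - 2) (p - 1) = 1 := by
    obtain ⟨q, rfl⟩ : ∃ q, p = q + 2 := ⟨p - 2, by omega⟩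
    simp
  rw [h2, Nat.div_one, Nat.card_eq_fintype_card, Fintype.card_fin] at h1
  rw [x0_eq_rr_add_nr]
  omega

end Cfsg.Agent.H26.XZ
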